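import Groth.Agent.Lib.StalkPullTensor28.Germ
import Groth.Agent.Lib.RMorLocal.FlatStalk
import Mathlib.RingTheory.Flat.Stability

/-!
# The stalk maps of a map of ringed spaces, at the points of the sites
-/

set_option autoImplicit false
set_option linter.style.haveILetI false

universe u

open CategoryTheory CategoryTheory.Limits Opposite TopologicalSpace

namespace Groth.Agent.Lib.StalkPullTensor28.Rings

open Groth.Agent.Lib.StalkPullTensor28.Germ Groth.Agent.Lib.RMorLocal
  Groth.Agent.Lib.RMorLocal.FlatStalk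

variable {X Y : TopCat.{u}} {f : X ⟶ Y} {O_X : TopCat.Sheaf CommRingCat.{u} X}
  {O_Y : TopCat.Sheaf CommRingCat.{u} Y}
  (c : O_Y ⟶ ((TopologicalSpace.Opens.map f).sheafPushforwardContinuous CommRingCat.{u}
    (Opens.grothendieckTopology Y) (Opens.grothendieckTopology X)).obj O_X) (x : X)

/-- The ring downstairs. -/
noncomputable abbrev R : CommRingCat.{u} := (fun _ => _root_.ModSite.stalkRing (pt (f x)) O_Y) c

/-- A point over a point. -/
abbrev up {V : Opens Y} (q : (pt (f x)).fiber.obj V) : (pt x).fiber.obj ((Opens.map f).obj V) :=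
  nb x (U := (Opens.map f).obj V) q.down.down

/-- The stalk map `O_{Y,fx} → O_{X,x}`. -/
noncomputable def σ : R c x →+* _root_.ModSite.stalkRing (pt x) O_X :=
  ((pt (f x)).presheafFiberDesc (P := O_Y.obj)
    (fun V q => c.hom.app (op V) ≫ (pt x).toPresheafFiber ((Opens.map f).obj V) (up x q) O_X.obj)
    (fun {V W} g q => (Category.assoc _ _ _).symm.trans ((congrArg (· ≫ _) (c.hom.naturality g.op)).trans
      ((Category.assoc _ _ _).trans (congrArg (c.hom.app (op W) ≫ ·)
        ((pt x).toPresheafFiber_w ((Opens.map f).map g) (up x q) O_X.obj)))))).hom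

lemma σ_gr {V : Opens Y} (h : f x ∈ V) (r : O_Y.obj.obj (op V)) :
    σ c x (gr (f x) V h r) =
      gr x ((Opens.map f).obj V) h ((c.hom.app (op V)).hom r) :=
  ConcreteCategory.congr_hom
    ((pt (f x)).toPresheafFiber_presheafFiberDesc (P := O_Y.obj) _ _ V (nb (f x) h)) r

lemma gr_sh {U : Opens X} {V : Opens Y} (ψ : U ⟶ (Opens.map f).obj V) (h : x ∈ U)
    (r : O_Y.obj.obj (op V)) :
    gr x U h (Pull.sh (rmor c) ψ r) = σ c x (gr (f x) V (ψ.le h) r) :=
  (gr_res (O := O_X) ψ h _).trans (σ_gr c x (ψ.le h) r).symm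

/-- The pulled back ring at `x`. -/
noncomputable abbrev S : CommRingCat.{u} := _root_.ModSite.stalkRing (pt x) (rmor c).invRing

/-- The comparison with the stalk of the pulled back ring. -/
noncomputable def τ : R c x →+* S c x :=
  ((pt (f x)).presheafFiberDesc (P := O_Y.obj)
    (fun V q => ((InvRing.adjR (J := Opens.grothendieckTopology X)
        (Opens.grothendieckTopology Y) (Opens.map f)).unit.app O_Y).hom.app (op V) ≫
      (pt x).toPresheafFiber ((Opens.map f).obj V) (up x q) (rmor c).invRing.obj)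
    (fun {V W} g q => (Category.assoc _ _ _).symm.trans
      ((congrArg (· ≫ _) (((InvRing.adjR (J := Opens.grothendieckTopology X)
          (Opens.grothendieckTopology Y) (Opens.map f)).unit.app O_Y).hom.naturality g.op)).trans
        ((Category.assoc _ _ _).trans (congrArg (_ ≫ ·)
          ((pt x).toPresheafFiber_w ((Opens.map f).map g) (up x q) (rmor c).invRing.obj)))))).hom

lemma τ_gr {V : Opens Y} (h : f x ∈ V) (r : O_Y.obj.obj (op V)) :
    τ c x (gr (f x) V h r) =
      gr x ((Opens.map f).obj V) h (InvRing.invUn (J := Opens.grothendieckTopology X)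
        (Opens.grothendieckTopology Y) (Opens.map f) O_Y V r) :=
  ConcreteCategory.congr_hom
    ((pt (f x)).toPresheafFiber_presheafFiberDesc (P := O_Y.obj) _ _ V (nb (f x) h)) r

lemma gr_ep {U : Opens X} {V : Opens Y} (ψ : U ⟶ (Opens.map f).obj V) (h : x ∈ U)
    (r : O_Y.obj.obj (op V)) :
    gr x U h (FlatMor.ep (rmor c) ψ r) = τ c x (gr (f x) V (ψ.le h) r) :=
  (gr_res (O := (rmor c).invRing) ψ h _).trans (τ_gr c x (ψ.le h) r).symm

/-- The stalk of `f⁻¹O_Y → O_X`. -/
noncomputable def invSharpx : S c x →+* _root_.ModSite.stalkRing (pt x) O_X :=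
  ((pt x).sheafFiber (A := CommRingCat.{u}).map (rmor c).invSharp).hom

lemma invSharpx_gr {U : Opens X} (h : x ∈ U) (a : (rmor c).invRing.obj.obj (op U)) :
    invSharpx c x (gr x U h a) = gr x U h (((rmor c).invSharp.hom.app (op U)).hom a) :=
  (pt x).toPresheafFiber_naturality_apply (rmor c).invSharp.hom U (nb x h) a

theorem invSharpx_τ : (invSharpx c x).comp (τ c x) = σ c x := by
  refine RingHom.ext fun a => ?_
  obtain ⟨V, h, r, rfl⟩ := exists_gr (O := O_Y) a
  refine (congrArg (invSharpx c x) (gr_ep c x (U := (Opens.map f).obj V) (𝟙 _) h r).symm).trans ?_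
  refine (invSharpx_gr c x h _).trans ?_
  refine (congrArg (gr x ((Opens.map f).obj V) h) (FlatMor.isharp_ep (f := rmor c) (𝟙 _) r)).trans ?_
  exact gr_sh c x (𝟙 _) h r

theorem τ_bijective : Function.Bijective (τ c x) := by
  haveI : PreservesFiniteLimits ((Opens.map f).sheafPullback (Type u)
      (Opens.grothendieckTopology Y) (Opens.grothendieckTopology X)) := (rmor c).exact
  refine ⟨(injective_iff_map_eq_zero _).2 fun a ha => ?_, fun z => ?_⟩
  · obtain ⟨V, h, r, rfl⟩ := exists_gr (O := O_Y) a
    rw [← gr_ep c x (U := (Opens.map f).obj V) (𝟙 _) h r] at ha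
    obtain ⟨W, g, hW, hg⟩ := exists_of_gr_eq (O := (rmor c).invRing) (U := (Opens.map f).obj V) h
      (ha.trans (map_zero _).symm)
    obtain ⟨T, hT, hr⟩ := FlatMor.exists_cover_ep_zero (f := rmor c) (n := 1) (c := W) (d := V) g
      (fun _ => r) (fun _ => by
        refine Eq.trans ?_ (hg.trans (map_zero _))
        exact ((InvRing.map_eps (J := Opens.grothendieckTopology X) (Opens.grothendieckTopology Y)
          (Opens.map f) O_Y g (𝟙 _) r).trans (congrArg (fun q => FlatMor.ep (rmor c) q r) (Category.comp_id g))).symm)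
    obtain ⟨W', g', hg', hxW'⟩ := hT x hW
    obtain ⟨V', a', ψ', -, ha'⟩ := hr g' hg'
    have e := gr_res (O := O_Y) a' (ψ'.le hxW') r
    rw [ha' 0, map_zero] at e
    exact e.symm
  · obtain ⟨U, hxU, s, rfl⟩ := exists_gr (O := (rmor c).invRing) z
    obtain ⟨T, hT, hr⟩ := FlatMor.exists_cover_ep (f := rmor c) (n := 1) (c := U)
      (d := (⊤ : Opens Y)) (homOfLE fun _ _ => trivial) (fun _ => s)
    obtain ⟨W, g, hg, hxW⟩ := hT x hxU
    obtain ⟨V, a', ψ', r, -, hr'⟩ := hr g hg
    refine ⟨gr (f x) V (ψ'.le hxW) (r 0), (gr_ep c x ψ' hxW (r 0)).symm.trans ?_⟩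
    exact (congrArg (gr x W hxW) (hr' 0)).trans (gr_res (O := (rmor c).invRing) g hxW s)

variable (F : _root_.ModSite.Mod O_X)

/-- The stalk of `F` as a module over `O_{Y,fx}`. -/
def Fst : Type u := _root_.ModSite.stalkAb (pt x) F

noncomputable instance : AddCommGroup (Fst x F) :=
  inferInstanceAs (AddCommGroup (_root_.ModSite.stalkAb (pt x) F))

noncomputable instance : Module (_root_.ModSite.stalkRing (pt x) O_X) (Fst x F) :=
  _root_.ModSite.moduleStalk (pt x) F

/-- The module structure. -/
@[reducible] noncomputable def modR : Module (R c x) (Fst x F) :=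
  Module.compHom (Fst x F) (σ c x)

theorem flat_of (hF : @Module.Flat (S c x) (Fst x F) _ _
      (Module.compHom (Fst x F) (invSharpx c x))) :
    @Module.Flat (R c x) (Fst x F) _ _ (modR c x F) := by
  letI := (τ c x).toAlgebra
  letI : Module (S c x) (Fst x F) := Module.compHom (Fst x F) (invSharpx c x)
  letI := modR c x F
  haveI : Module.Flat (S c x) (Fst x F) := hF
  haveI : IsScalarTower (R c x) (S c x) (Fst x F) := ⟨fun a s m => by
    show invSharpx c x (τ c x a * s) • m = σ c x a • (invSharpx c x s • m)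
    rw [map_mul, mul_smul, ← invSharpx_τ]
    rfl⟩
  haveI : Module.Flat (R c x) (S c x) :=
    Module.Flat.of_linearEquiv (LinearEquiv.ofBijective (Algebra.linearMap (R c x) (S c x))
      (τ_bijective c x)).symm
  exact Module.Flat.trans (R c x) (S c x) (Fst x F)

end Groth.Agent.Lib.StalkPullTensor28.Rings
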