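import Groth.Agent.Lib.StalkPullTensor28.Pair

/-!
# The inverse of the pairing
-/

set_option autoImplicit false
set_option linter.style.haveILetI false
set_option maxHeartbeats 1000000
set_option backward.isDefEq.respectTransparency.types false

universe u

open CategoryTheory CategoryTheory.Limits Opposite TopologicalSpace MonoidalCategory TensorProduct

namespace Groth.Agent.Lib.StalkPullTensor28.Beta

open Groth.Agent.Lib.StalkPullTensor28.Germ Groth.Agent.Lib.StalkPullTensor28.Rings
  Groth.Agent.Lib.StalkPullTensor28.Pair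
  Groth.Agent.Lib.RMorLocal Groth.Agent.Lib.RMorLocal.FlatStalk Groth.Agent.Lib.ModTensor.Local
  Groth.Agent.Lib.FlatCrit

variable {X Y : TopCat.{u}} {f : X ⟶ Y} {O_X : TopCat.Sheaf CommRingCat.{u} X}
  {O_Y : TopCat.Sheaf CommRingCat.{u} Y}
  (c : O_Y ⟶ ((TopologicalSpace.Opens.map f).sheafPushforwardContinuous CommRingCat.{u}
    (Opens.grothendieckTopology Y) (Opens.grothendieckTopology X)).obj O_X)
  (G : _root_.ModSite.Mod O_Y) (F : _root_.ModSite.Mod O_X) (x : X)

/-- The tensor product of the stalks. -/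
abbrev T : Type u := Gst c G x ⊗[R c x] FR c F x

noncomputable instance : Module (_root_.ModSite.stalkRing (pt x) O_X) (FR c F x) :=
  inferInstanceAs (Module (_root_.ModSite.stalkRing (pt x) O_X) (Fst x F))

/-- Scalars act on the stalk of `F`. -/
noncomputable def act {U : Opens X} (h : x ∈ U) (a : O_X.obj.obj (op U)) : FR c F x →+ FR c F x :=
  DistribMulAction.toAddMonoidHom (FR c F x) (gr x U h a)

lemma act_toFR {U : Opens X} (h : x ∈ U) (a : O_X.obj.obj (op U)) (b : _root_.ModSite.stalkAb (pt x) F) :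
    act c F x h a (toFR c F x b) = toFR c F x (gr x U h a • b) := rfl

lemma act_add {U : Opens X} (h : x ∈ U) (a a' : O_X.obj.obj (op U)) (b : FR c F x) :
    act c F x h (a + a') b = act c F x h a b + act c F x h a' b :=
  show gr x U h (a + a') • b = gr x U h a • b + gr x U h a' • b by
    rw [map_add, add_smul]

lemma act_mul {U : Opens X} (h : x ∈ U) (a a' : O_X.obj.obj (op U)) (b : FR c F x) :
    act c F x h (a * a') b = act c F x h a' (act c F x h a b) :=
  show gr x U h (a * a') • b = gr x U h a' • (gr x U h a • b) by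
    rw [← mul_smul, mul_comm, map_mul]

/-- The value of a formal combination. -/
noncomputable def ev {U : Opens X} (h : x ∈ U) (b : FR c F x) :
    (Pull.Fr (rmor c) G).obj (op U) →+ T c G F x :=
  Finsupp.liftAddHom fun p => AddMonoidHom.mk'
    (fun a : O_X.obj.obj (op U) => gm (f x) G p.1.1 (p.1.2.le h) p.2 ⊗ₜ[R c x] act c F x h a b)
    (fun a a' => by rw [act_add, TensorProduct.tmul_add])

lemma ev_smul_b {U : Opens X} (h : x ∈ U) (b : FR c F x) {V : Opens Y} (ψ : U ⟶ (Opens.map f).obj V)
    (a : O_X.obj.obj (op U)) (m : _root_.ModSite.sect G V) :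
    ev c G F x h b (a • Pull.b (rmor c) G (c := op U) ψ m) =
      gm (f x) G V (ψ.le h) m ⊗ₜ[R c x] act c F x h a b := by
  have e : a • Pull.b (rmor c) G (c := op U) ψ m =
      (Finsupp.single (Pull.mkSym (rmor c) G (c := op U) ψ m) a :
        (Pull.Sym (rmor c) G).obj (op U) →₀ O_X.obj.obj (op U)) :=
    (Finsupp.smul_single a _ (1 : O_X.obj.obj (op U))).trans (congrArg _ (mul_one a))
  rw [e]
  exact Finsupp.liftAddHom_apply_single _ _ _

lemma ev_b {U : Opens X} (h : x ∈ U) (b : FR c F x) {V : Opens Y} (ψ : U ⟶ (Opens.map f).obj V)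
    (m : _root_.ModSite.sect G V) :
    ev c G F x h b (Pull.b (rmor c) G (c := op U) ψ m) = gm (f x) G V (ψ.le h) m ⊗ₜ[R c x] b := by
  have e := ev_smul_b c G F x h b ψ 1 m
  rw [one_smul] at e
  refine e.trans (congrArg _ ?_)
  show gr (O := O_X) x U h 1 • b = b
  rw [map_one, one_smul]

lemma induction_Fr {U : Opens X} {P : (Pull.Fr (rmor c) G).obj (op U) → Prop} (h0 : P 0)
    (hadd : ∀ z z', P z → P z' → P (z + z'))
    (hb : ∀ (a : O_X.obj.obj (op U)) (V : Opens Y) (ψ : U ⟶ (Opens.map f).obj V)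
      (m : _root_.ModSite.sect G V), P (a • Pull.b (rmor c) G (c := op U) ψ m))
    (z : (Pull.Fr (rmor c) G).obj (op U)) : P z := by
  refine Finsupp.induction_linear (motive := P) z h0 hadd fun p a => ?_
  rw [show (Finsupp.single p a : (Pull.Sym (rmor c) G).obj (op U) →₀ O_X.obj.obj (op U)) =
    a • Pull.b (rmor c) G (c := op U) p.1.2 p.2 from
    ((Finsupp.smul_single (M := O_X.obj.obj (op U)) (R := O_X.obj.obj (op U)) a p 1).trans (congrArg _ (mul_one a))).symm]
  exact hb a p.1.1 p.1.2 p.2

lemma ev_smul {U : Opens X} (h : x ∈ U) (b : FR c F x) (a : O_X.obj.obj (op U))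
    (z : (Pull.Fr (rmor c) G).obj (op U)) :
    ev c G F x h b (a • z) = ev c G F x h (act c F x h a b) z := by
  induction z using induction_Fr c G with
  | h0 => rw [smul_zero, map_zero, map_zero]
  | hadd z z' hz hz' => rw [smul_add, map_add, map_add, hz, hz']
  | hb a' V ψ m => rw [smul_smul, ev_smul_b, ev_smul_b, act_mul]

lemma ev_res {U W : Opens X} (g : W ⟶ U) (h : x ∈ W) (b : FR c F x)
    (z : (Pull.Fr (rmor c) G).obj (op U)) :
    ev c G F x h b (res (R := O_X.obj) (Pull.Fr (rmor c) G) g.op z) = ev c G F x (g.le h) b z := by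
  induction z using induction_Fr c G with
  | h0 => rw [map_zero, map_zero, map_zero]
  | hadd z z' hz hz' => rw [map_add, map_add, map_add, hz, hz']
  | hb a V ψ m =>
    rw [res_smul, Pull.res_b]
    refine (ev_smul_b c G F x h b (g ≫ ψ) _ m).trans ((congrArg _ ?_).trans (ev_smul_b c G F x (g.le h) b ψ a m).symm)
    show gr (O := O_X) x W h _ • b = gr x U _ a • b
    rw [gr_res]

lemma ev_add_b {U : Opens X} (h : x ∈ U) (b b' : FR c F x) (z : (Pull.Fr (rmor c) G).obj (op U)) :
    ev c G F x h (b + b') z = ev c G F x h b z + ev c G F x h b' z := by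
  induction z using induction_Fr c G with
  | h0 => rw [map_zero, map_zero, map_zero, add_zero]
  | hadd z z' hz hz' => rw [map_add, map_add, map_add, hz, hz']; abel
  | hb a V ψ m => rw [ev_smul_b, ev_smul_b, ev_smul_b, map_add, TensorProduct.tmul_add]

lemma ev_rel {U : Opens X} (h : x ∈ U) (b : FR c F x) {z : (Pull.Fr (rmor c) G).obj (op U)}
    (hz : Pull.IsRel (rmor c) G (op U) z) : ev c G F x h b z = 0 := by
  cases hz with
  | @add V ψ m m' =>
    rw [map_sub, map_sub, ev_b, ev_b, ev_b, map_add, TensorProduct.add_tmul]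
    abel
  | @smul V ψ r m =>
    rw [map_sub, ev_b, ev_smul_b, gm_smul, TensorProduct.smul_tmul, sub_eq_zero]
    refine congrArg _ ?_
    show σ c x (gr (f x) V (ψ.le h) r) • b = gr (O := O_X) x U h _ • b
    rw [gr_sh]
  | @map V V' ψ a m =>
    rw [map_sub, ev_b, ev_b, sub_eq_zero]
    exact congrArg (· ⊗ₜ[R c x] b) (gm_res G a (ψ.le h) m)

lemma ev_span {U : Opens X} (h : x ∈ U) {z : (Pull.Fr (rmor c) G).obj (op U)}
    (hz : z ∈ Submodule.span (O_X.obj.obj (op U)) {y | Pull.IsRel (rmor c) G (op U) y})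
    (b : FR c F x) : ev c G F x h b z = 0 := by
  induction hz using Submodule.span_induction generalizing b with
  | mem y hy => exact ev_rel c G F x h b hy
  | zero => exact map_zero _
  | add y y' _ _ hy hy' => rw [map_add, hy, hy', add_zero]
  | smul a y _ hy => rw [ev_smul, hy]

lemma exists_lift {U : Opens X} (h : x ∈ U) (g : (Pull.PMod (rmor c) G).obj (op U)) :
    ∃ (W : Opens X) (i : W ⟶ U) (_ : x ∈ W) (z : (Pull.Fr (rmor c) G).obj (op W)),
      (Pull.eps (rmor c) G).app (op W) z = res (R := O_X.obj) (Pull.PMod (rmor c) G) i.op g := by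
  obtain ⟨S, hS, hz⟩ := Pull.exists_cover_eps (rmor c) G (c := U) (fun _ : Fin 1 => g)
  obtain ⟨W, i, hi, hxW⟩ := hS x h
  obtain ⟨z, hz⟩ := hz i hi
  exact ⟨W, i, hxW, z 0, hz 0⟩

/-- The value of a section of `f^*G`. -/
noncomputable def β {U : Opens X} (h : x ∈ U) (g : (Pull.PMod (rmor c) G).obj (op U)) (b : FR c F x) :
    T c G F x :=
  ev c G F x (exists_lift c G x h g).choose_spec.choose_spec.choose b
    (exists_lift c G x h g).choose_spec.choose_spec.choose_spec.choose

theorem β_eq {U : Opens X} (h : x ∈ U) (g : (Pull.PMod (rmor c) G).obj (op U)) (b : FR c F x)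
    {W : Opens X} (i : W ⟶ U) (hW : x ∈ W) (z : (Pull.Fr (rmor c) G).obj (op W))
    (hz : (Pull.eps (rmor c) G).app (op W) z = res (R := O_X.obj) (Pull.PMod (rmor c) G) i.op g) :
    β c G F x h g b = ev c G F x hW b z := by
  have hz₀ := (exists_lift c G x h g).choose_spec.choose_spec.choose_spec.choose_spec
  let W₀ := (exists_lift c G x h g).choose
  let i₀ : W₀ ⟶ U := (exists_lift c G x h g).choose_spec.choose
  let hW₀ : x ∈ W₀ := (exists_lift c G x h g).choose_spec.choose_spec.choose
  let z₀ := (exists_lift c G x h g).choose_spec.choose_spec.choose_spec.choose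
  let j₀ : W₀ ⊓ W ⟶ W₀ := homOfLE inf_le_left
  let j : W₀ ⊓ W ⟶ W := homOfLE inf_le_right
  let d := res (R := O_X.obj) (Pull.Fr (rmor c) G) j₀.op z₀ - res (R := O_X.obj) (Pull.Fr (rmor c) G) j.op z
  have hd : (Pull.eps (rmor c) G).app (op (W₀ ⊓ W)) d = 0 := by
    rw [map_sub, res_app, res_app, hz₀, hz, sub_eq_zero, ← res_comp, ← res_comp]
    rfl
  obtain ⟨S, hS, hsp⟩ := Pull.exists_cover_span (rmor c) G hd
  obtain ⟨W', k, hk, hxW'⟩ := hS x ⟨hW₀, hW⟩
  have e := ev_span c G F x hxW' (hsp k hk) b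
  rw [map_sub, map_sub, ev_res, ev_res, ev_res, ev_res, sub_eq_zero] at e
  exact e

lemma β_res {U W : Opens X} (i : W ⟶ U) (h : x ∈ W) (g : (Pull.PMod (rmor c) G).obj (op U)) (b : FR c F x) :
    β c G F x h (res (R := O_X.obj) (Pull.PMod (rmor c) G) i.op g) b = β c G F x (i.le h) g b := by
  obtain ⟨W', j, hW', z, hz⟩ := exists_lift c G x h (res (R := O_X.obj) (Pull.PMod (rmor c) G) i.op g)
  rw [β_eq c G F x h _ b j hW' z hz,
    β_eq c G F x (i.le h) g b (j ≫ i) hW' z (hz.trans (res_comp _ i.op j.op g).symm)]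

lemma β_pl {U : Opens X} {V : Opens Y} (ψ : U ⟶ (Opens.map f).obj V) (h : x ∈ U)
    (m : _root_.ModSite.sect G V) (b : FR c F x) :
    β c G F x h (Pull.pl (rmor c) G ψ m) b = gm (f x) G V (ψ.le h) m ⊗ₜ[R c x] b := by
  rw [β_eq c G F x h _ b (𝟙 U) h (Pull.b (rmor c) G (c := op U) ψ m), ev_b]
  rw [Pull.eps_b]
  exact (ConcreteCategory.congr_hom ((Pull.PMod (rmor c) G).presheaf.map_id (op U)) _).symm

lemma β_add {U : Opens X} (h : x ∈ U) (g g' : (Pull.PMod (rmor c) G).obj (op U)) (b : FR c F x) :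
    β c G F x h (g + g') b = β c G F x h g b + β c G F x h g' b := by
  obtain ⟨W, i, hW, z, hz⟩ := exists_lift c G x h g
  obtain ⟨W', i', hW', z', hz'⟩ := exists_lift c G x hW (res (R := O_X.obj) (Pull.PMod (rmor c) G) i.op g')
  rw [β_eq c G F x h g b (i' ≫ i) hW' (res (R := O_X.obj) (Pull.Fr (rmor c) G) i'.op z)
      (by rw [res_app, hz, op_comp, res_comp]),
    β_eq c G F x h g' b (i' ≫ i) hW' z' (by rw [hz', op_comp, res_comp]),
    β_eq c G F x h (g + g') b (i' ≫ i) hW' (res (R := O_X.obj) (Pull.Fr (rmor c) G) i'.op z + z')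
      (by rw [map_add, map_add, res_app, hz, hz', op_comp, res_comp, res_comp]),
    map_add]

lemma β_smul {U : Opens X} (h : x ∈ U) (a : O_X.obj.obj (op U))
    (g : (Pull.PMod (rmor c) G).obj (op U)) (b : FR c F x) :
    β c G F x h (a • g) b = β c G F x h g (act c F x h a b) := by
  obtain ⟨W, i, hW, z, hz⟩ := exists_lift c G x h g
  rw [β_eq c G F x h g _ i hW z hz,
    β_eq c G F x h (a • g) b i hW ((O_X.obj.map i.op).hom a • z)
      (by rw [res_smul, ← hz, map_smul]), ev_smul]
  refine congrArg (fun q => ev c G F x hW q z) ?_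
  show gr (O := O_X) x W hW _ • b = gr x U h a • b
  rw [gr_res]

lemma β_add_b {U : Opens X} (h : x ∈ U) (g : (Pull.PMod (rmor c) G).obj (op U)) (b b' : FR c F x) :
    β c G F x h g (b + b') = β c G F x h g b + β c G F x h g b' := by
  obtain ⟨W, i, hW, z, hz⟩ := exists_lift c G x h g
  rw [β_eq c G F x h g _ i hW z hz, β_eq c G F x h g b i hW z hz, β_eq c G F x h g b' i hW z hz, ev_add_b]

/-- The value of a section of the presheaf tensor product. -/
noncomputable def θ {U : Opens X} (h : x ∈ U) : (PF c G F).obj (op U) →+ T c G F x :=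
  TensorProduct.liftAddHom (R := O_X.obj.obj (op U))
    (AddMonoidHom.mk'
      (fun g : (Pull.PMod (rmor c) G).obj (op U) => AddMonoidHom.mk'
        (fun s : _root_.ModSite.sect F U => β c G F x h g (toFR c F x (gm x F U h s)))
        (fun s s' => (congrArg (β c G F x h g) ((congrArg (toFR c F x) (map_add (gm x F U h) s s')).trans (map_add _ _ _))).trans (β_add_b c G F x h g _ _)))
      (fun g g' => AddMonoidHom.ext fun s => β_add c G F x h g g' _))
    (fun a g s => (β_smul c G F x h a g _).trans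
      (congrArg (fun q => β c G F x h g (toFR c F x q)) (gm_smul F h a s).symm))

lemma θ_tm {U : Opens X} (h : x ∈ U) (g : (Pull.PMod (rmor c) G).obj (op U)) (s : _root_.ModSite.sect F U) :
    θ c G F x h (tm (R := O_X.obj) _ _ g s) = β c G F x h g (toFR c F x (gm x F U h s)) := rfl

lemma θ_res {U W : Opens X} (i : W ⟶ U) (h : x ∈ W) (z : (PF c G F).obj (op U)) :
    θ c G F x h (res (R := O_X.obj) (PF c G F) i.op z) = θ c G F x (i.le h) z := by
  induction z using TensorProduct.induction_on with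
  | zero => exact (congrArg _ (map_zero _)).trans ((map_zero _).trans (map_zero _).symm)
  | tmul g s =>
    refine (β_res c G F x i h g _).trans (congrArg (fun q => β c G F x (i.le h) g (toFR c F x q)) ?_)
    exact gm_res F i h s
  | add z z' hz hz' =>
    exact (congrArg _ (map_add _ z z')).trans ((map_add _ _ _).trans
      ((congrArg₂ (· + ·) hz hz').trans (map_add _ z z').symm))

theorem exists_θ (t : T c G F x) : ∃ (U : Opens X) (h : x ∈ U) (z : (PF c G F).obj (op U)),
    θ c G F x h z = t ∧ gm x (H c G F) U h (η c G F U z) = Φ c G F x t := by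
  induction t using TensorProduct.induction_on with
  | zero => exact ⟨⊤, trivial, 0, map_zero _, by rw [map_zero, map_zero, map_zero]⟩
  | tmul a b =>
    obtain ⟨W, V, ψ, h, m, s, rfl, rfl⟩ := exists_rep c G F x a b
    exact ⟨W, h, tm (R := O_X.obj) _ _ (Pull.pl (rmor c) G ψ m) s,
      (θ_tm c G F x h _ s).trans (β_pl c G F x ψ h m _), (Φ_tmul c G F x ψ h m s).symm⟩
  | add t t' ht ht' =>
    obtain ⟨U, h, z, hz, hz₂⟩ := ht
    obtain ⟨U', h', z', hz', hz'₂⟩ := ht'
    let i : U ⊓ U' ⟶ U := homOfLE inf_le_left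
    let i' : U ⊓ U' ⟶ U' := homOfLE inf_le_right
    refine ⟨U ⊓ U', ⟨h, h'⟩, res (R := O_X.obj) (PF c G F) i.op z + res (R := O_X.obj) (PF c G F) i'.op z', ?_, ?_⟩
    · rw [map_add, θ_res, θ_res, hz, hz']
    · rw [map_add, map_add, η_res, η_res, gm_res, gm_res, hz₂, hz'₂, map_add]

theorem Φ_θ {U : Opens X} (h : x ∈ U) (z : (PF c G F).obj (op U)) :
    Φ c G F x (θ c G F x h z) = gm x (H c G F) U h (η c G F U z) := by
  induction z using TensorProduct.induction_on with
  | zero =>
    exact (congrArg _ (map_zero (θ c G F x h))).trans ((map_zero _).trans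
      ((congrArg _ (map_zero (η c G F U))).trans (map_zero _)).symm)
  | add z z' hz hz' =>
    exact (congrArg _ (map_add (θ c G F x h) z z')).trans ((map_add _ _ _).trans
      ((congrArg₂ (· + ·) hz hz').trans
        ((map_add _ _ _).symm.trans (congrArg _ (map_add (η c G F U) z z').symm))))
  | tmul g s =>
    obtain ⟨W, i, hW, z, hz⟩ := exists_lift c G x h g
    refine (congrArg (Φ c G F x) (β_eq c G F x h g _ i hW z hz)).trans ?_
    refine Eq.trans ?_ (gm_res (H c G F) i hW (η c G F U (tm (R := O_X.obj) _ _ g s)))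
    rw [← η_res, res_tm]
    refine Eq.trans ?_ (congrArg (fun q => gm x (H c G F) W hW (η c G F W (tm (R := O_X.obj) _ _ q _))) hz)
    rw [← gm_res F i hW s]
    clear hz
    induction z using induction_Fr c G with
    | h0 =>
      exact (congrArg _ (map_zero _)).trans ((map_zero _).trans (Eq.symm (by
        refine (congrArg (fun q => gm x (H c G F) W hW (η c G F W q)) ?_).trans
          ((congrArg _ (map_zero (η c G F W))).trans (map_zero _))
        exact (congrArg (fun q => tm (R := O_X.obj) _ _ q _) (map_zero _)).trans (TensorProduct.zero_tmul _ _))))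
    | hadd z z' hz hz' =>
      rw [map_add, map_add, hz, hz', ← map_add, ← map_add]
      refine congrArg (fun q => gm x (H c G F) W hW (η c G F W q)) ?_
      exact (TensorProduct.add_tmul _ _ _).symm.trans
        (congrArg (fun q => tm (R := O_X.obj) _ _ q _) (map_add _ z z').symm)
    | hb a V ψ m =>
      rw [ev_smul_b, act_toFR, ← gm_smul, Φ_tmul]
      refine congrArg (fun q => gm x (H c G F) W hW (η c G F W q)) ?_
      rw [map_smul, Pull.eps_b]
      exact (TensorProduct.smul_tmul (R := O_X.obj.obj (op W))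
        (M := (Pull.PMod (rmor c) G).obj (op W)) (N := _root_.ModSite.sect F W) a _ _).symm

end Groth.Agent.Lib.StalkPullTensor28.Beta
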