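import Groth.Prelude.Def_ModSite2
import Mathlib.Topology.Sheaves.Points
import Mathlib.CategoryTheory.Sites.Point.Basic

/-!
# Germs of modules at the points of a space
-/

set_option autoImplicit false
set_option linter.style.haveILetI false

universe u

open CategoryTheory CategoryTheory.Limits Opposite TopologicalSpace

namespace Groth.Agent.Lib.StalkPullTensor28.Germ

variable {Z : TopCat.{u}} {O : TopCat.Sheaf CommRingCat.{u} Z} (z : Z)

/-- The point of the site of opens. -/
noncomputable abbrev pt : GrothendieckTopology.Point.{u} (Opens.grothendieckTopology Z) :=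
  Opens.pointGrothendieckTopology z

/-- A neighbourhood in the fibre. -/
abbrev nb {U : Opens Z} (h : z ∈ U) : (pt z).fiber.obj U := ⟨⟨h⟩⟩

/-- The germ of a scalar. -/
noncomputable abbrev gr (U : Opens Z) (h : z ∈ U) :
    O.obj.obj (op U) →+* _root_.ModSite.stalkRing (pt z) O :=
  ((pt z).toPresheafFiber U (nb z h) O.obj).hom

/-- The germ of a section. -/
noncomputable abbrev gm (M : _root_.ModSite.Mod O) (U : Opens Z) (h : z ∈ U) :
    _root_.ModSite.sect M U →+ _root_.ModSite.stalkAb (pt z) M :=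
  ((pt z).toPresheafFiber U (nb z h) (_root_.ModSite.toAb M).obj).hom

variable {z}

lemma gm_smul (M : _root_.ModSite.Mod O) {U : Opens Z} (h : z ∈ U) (r : O.obj.obj (op U))
    (s : _root_.ModSite.sect M U) : gm z M U h (r • s) = gr z U h r • gm z M U h s :=
  _root_.ModSite.germ_smul (pt z) M U (nb z h) r s

lemma gr_res {U V : Opens Z} (g : V ⟶ U) (h : z ∈ V) (r : O.obj.obj (op U)) :
    gr z V h ((O.obj.map g.op).hom r) = gr z U (g.le h) r :=
  (pt z).toPresheafFiber_w_apply g (nb z h) O.obj r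

lemma gm_res (M : _root_.ModSite.Mod O) {U V : Opens Z} (g : V ⟶ U) (h : z ∈ V)
    (s : _root_.ModSite.sect M U) :
    gm z M V h ((M.val.presheaf.map g.op).hom s) = gm z M U (g.le h) s :=
  (pt z).toPresheafFiber_w_apply g (nb z h) (_root_.ModSite.toAb M).obj s

lemma exists_gm {M : _root_.ModSite.Mod O} (a : _root_.ModSite.stalkAb (pt z) M) :
    ∃ (U : Opens Z) (h : z ∈ U) (s : _root_.ModSite.sect M U), gm z M U h s = a := by
  obtain ⟨U, q, s, hs⟩ := (pt z).toPresheafFiber_jointly_surjective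
    (P := (_root_.ModSite.toAb M).obj) a
  exact ⟨U, q.down.down, s, hs⟩

lemma exists_gr (a : _root_.ModSite.stalkRing (pt z) O) :
    ∃ (U : Opens Z) (h : z ∈ U) (r : O.obj.obj (op U)), gr z U h r = a := by
  obtain ⟨U, q, s, hs⟩ := (pt z).toPresheafFiber_jointly_surjective (P := O.obj) a
  exact ⟨U, q.down.down, s, hs⟩

lemma exists_of_gm_eq {M : _root_.ModSite.Mod O} {U : Opens Z} (h : z ∈ U)
    {s s' : _root_.ModSite.sect M U} (e : gm z M U h s = gm z M U h s') :
    ∃ (V : Opens Z) (g : V ⟶ U), z ∈ V ∧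
      (M.val.presheaf.map g.op).hom s = (M.val.presheaf.map g.op).hom s' := by
  obtain ⟨V, g, q, -, he⟩ := ((pt z).toPresheafFiber_eq_iff'
    (P := (_root_.ModSite.toAb M).obj) U (nb z h) s s').1 e
  exact ⟨V, g, q.down.down, he⟩

lemma exists_of_gr_eq {U : Opens Z} (h : z ∈ U) {s s' : O.obj.obj (op U)}
    (e : gr z U h s = gr z U h s') :
    ∃ (V : Opens Z) (g : V ⟶ U), z ∈ V ∧ (O.obj.map g.op).hom s = (O.obj.map g.op).hom s' := by
  obtain ⟨V, g, q, -, he⟩ := ((pt z).toPresheafFiber_eq_iff' (P := O.obj) U (nb z h) s s').1 e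
  exact ⟨V, g, q.down.down, he⟩

lemma eq_zero_of_gm {M : _root_.ModSite.Mod O} {U : Opens Z} (s : _root_.ModSite.sect M U)
    (hs : ∀ (z : Z) (h : z ∈ U), gm z M U h s = 0) : s = 0 := by
  refine TopCat.Presheaf.IsSheaf.section_ext (F := M.val.presheaf) M.isSheaf fun z hz => ?_
  obtain ⟨V, g, hzV, e⟩ := exists_of_gm_eq hz ((hs z hz).trans (map_zero _).symm)
  exact ⟨V, g.le, hzV, e⟩

end Groth.Agent.Lib.StalkPullTensor28.Germ
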