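import Groth.Agent.Lib.StalkPullTensor28.Beta
import Groth.Agent.Lib.ModTensor.FlatMono

/-!
# `G ↦ f^*G ⊗ F` is exact for `F` flat over the base
-/

set_option autoImplicit false
set_option linter.style.haveILetI false
set_option maxHeartbeats 1000000
set_option backward.isDefEq.respectTransparency.types false

universe u

open CategoryTheory CategoryTheory.Limits Opposite TopologicalSpace MonoidalCategory TensorProduct

namespace Groth.Agent.Lib.StalkPullTensor28.Main

open Groth.Agent.Lib.StalkPullTensor28.Germ Groth.Agent.Lib.StalkPullTensor28.Rings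
  Groth.Agent.Lib.StalkPullTensor28.Pair Groth.Agent.Lib.StalkPullTensor28.Beta
  Groth.Agent.Lib.RMorLocal Groth.Agent.Lib.RMorLocal.FlatStalk Groth.Agent.Lib.ModTensor.Local

variable {X Y : TopCat.{u}} {f : X ⟶ Y} {O_X : TopCat.Sheaf CommRingCat.{u} X}
  {O_Y : TopCat.Sheaf CommRingCat.{u} Y}
  (c : O_Y ⟶ ((TopologicalSpace.Opens.map f).sheafPushforwardContinuous CommRingCat.{u}
    (Opens.grothendieckTopology Y) (Opens.grothendieckTopology X)).obj O_X)
  {G₁ G₂ : _root_.ModSite.Mod O_Y} (φ : G₁ ⟶ G₂) (F : _root_.ModSite.Mod O_X) (x : X)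

/-- The induced map of presheaf tensor products. -/
noncomputable abbrev PFmap : PF c G₁ F ⟶ PF c G₂ F :=
  (ModTensor.Monoidal.G.{u, u, u} O_X).map ((rmor c).pull.map φ) ▷ (ModTensor.Monoidal.G.{u, u, u} O_X).obj F

/-- The induced map. -/
noncomputable abbrev Hmap : H c G₁ F ⟶ H c G₂ F :=
  (ModTensor.Monoidal.L.{u, u, u} O_X).map (PFmap c φ F)

lemma Hmap_η {U : Opens X} (z : (PF c G₁ F).obj (op U)) :
    (Hmap c φ F).val.app (op U) (η c G₁ F U z) = η c G₂ F U ((PFmap c φ F).app (op U) z) :=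
  (congrArg (fun q => q.app (op U) z)
    ((ModTensor.Monoidal.adj.{u, u, u} O_X).unit.naturality (PFmap c φ F))).symm

lemma pull_pl {U : Opens X} {V : Opens Y} (ψ : U ⟶ (Opens.map f).obj V) (m : _root_.ModSite.sect G₁ V) :
    ((ModTensor.Monoidal.G.{u, u, u} O_X).map ((rmor c).pull.map φ)).app (op U) (Pull.pl (rmor c) G₁ ψ m) =
      Pull.pl (rmor c) G₂ ψ (φ.val.app (op V) m) := by
  refine (res_app (R := O_X.obj) _ ψ.op _).trans (congrArg _ ?_)
  exact (congrArg (fun q => q.val.app (op V) m) ((rmor c).adj.unit.naturality φ)).symm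

/-- The map on stalks of a morphism. -/
noncomputable def stalkφ : Gst c G₁ x →ₗ[R c x] Gst c G₂ x :=
  (_root_.ModSite.stalkMap (pt (f x)) φ).hom

lemma stalkφ_gm {V : Opens Y} (h : f x ∈ V) (m : _root_.ModSite.sect G₁ V) :
    stalkφ c φ x (gm (f x) G₁ V h m) = gm (f x) G₂ V h (φ.val.app (op V) m) :=
  (pt (f x)).toPresheafFiber_naturality_apply
    ((SheafOfModules.toSheaf (_root_.ModSite.ringSh O_Y)).map φ).hom V (nb (f x) h) m

theorem stalkφ_injective [Mono φ] : Function.Injective (stalkφ c φ x) := by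
  refine (injective_iff_map_eq_zero _).2 fun a ha => ?_
  obtain ⟨V, hV, m, rfl⟩ := exists_gm (M := G₁) a
  rw [stalkφ_gm] at ha
  obtain ⟨W, g, hW, e⟩ := exists_of_gm_eq (M := G₂) hV (ha.trans (map_zero _).symm)
  have hinj : Function.Injective (φ.val.app (op W)) := by
    have := (ModTensor.Monoidal.adj.{u, u, u} O_Y).isRightAdjoint
    haveI : Mono ((ModTensor.Monoidal.G.{u, u, u} O_Y).map φ) := inferInstance
    exact (PresheafOfModules.mono_iff_surjective ((ModTensor.Monoidal.G.{u, u, u} O_Y).map φ)).1 inferInstance (X := op W)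
  refine (gm_res G₁ g hW m).symm.trans ((congrArg (gm (f x) G₁ W hW) (hinj ?_)).trans (map_zero _))
  exact ((res_app (R := O_Y.obj) φ.val g.op m).trans (e.trans (map_zero _))).trans (map_zero _).symm

theorem natural (t : T c G₁ F x) :
    ((pt x).sheafFiber (A := AddCommGrpCat.{u})).map
        ((SheafOfModules.toSheaf (_root_.ModSite.ringSh O_X)).map (Hmap c φ F)) (Φ c G₁ F x t) =
      Φ c G₂ F x (LinearMap.rTensor (FR c F x) (stalkφ c φ x) t) := by
  induction t using TensorProduct.induction_on with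
  | zero => simp only [map_zero]
  | add t t' ht ht' => simp only [map_add, ht, ht']
  | tmul a b =>
    obtain ⟨W, V, ψ, h, m, s, rfl, rfl⟩ := exists_rep c G₁ F x a b
    rw [LinearMap.rTensor_tmul, stalkφ_gm, Φ_tmul, Φ_tmul]
    refine ((pt x).toPresheafFiber_naturality_apply
      ((SheafOfModules.toSheaf (_root_.ModSite.ringSh O_X)).map (Hmap c φ F)).hom W (nb x h) _).trans ?_
    refine congrArg (gm x (H c G₂ F) W h) ((Hmap_η c φ F _).trans (congrArg (η c G₂ F W) ?_))
    exact congrArg (fun q => tm (R := O_X.obj) _ _ q s) (pull_pl c φ ψ m)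

theorem Φ_injective {G : _root_.ModSite.Mod O_Y} : Function.Injective (Φ c G F x) := by
  refine (injective_iff_map_eq_zero _).2 fun t ht => ?_
  obtain ⟨U, h, z, hz, hz₂⟩ := exists_θ c G F x t
  obtain ⟨W, g, hW, e⟩ := exists_of_gm_eq (M := H c G F) h ((hz₂.trans ht).trans (map_zero _).symm)
  replace e : η c G F W (res (R := O_X.obj) (PF c G F) g.op z) = 0 :=
    (η_res c G F g z).trans (e.trans (map_zero _))
  obtain ⟨hinj, -⟩ := (ModTensor.Monoidal.isIso_map_iff
    ((ModTensor.Monoidal.adj.{u, u, u} O_X).unit.app (PF c G F))).1 inferInstance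
  have hmem := Presheaf.equalizerSieve_mem (Opens.grothendieckTopology X)
    ((PresheafOfModules.toPresheaf _).map ((ModTensor.Monoidal.adj.{u, u, u} O_X).unit.app (PF c G F)))
    (res (R := O_X.obj) (PF c G F) g.op z) (0 : (PF c G F).obj (op W))
    (e.trans (map_zero (η c G F W)).symm)
  obtain ⟨W', k, hk, hxW'⟩ := hmem x hW
  have hk' : res (R := O_X.obj) (PF c G F) k.op (res (R := O_X.obj) (PF c G F) g.op z) = 0 :=
    (show res (R := O_X.obj) (PF c G F) k.op (res (R := O_X.obj) (PF c G F) g.op z) =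
      res (R := O_X.obj) (PF c G F) k.op 0 from hk).trans (map_zero _)
  refine hz.symm.trans ((θ_res c G F x g hW z).symm.trans ((θ_res c G F x k hxW' _).symm.trans ?_))
  rw [hk', map_zero]

theorem exists_Φ {G : _root_.ModSite.Mod O_Y} (a : _root_.ModSite.stalkAb (pt x) (H c G F)) :
    ∃ t, Φ c G F x t = a := by
  obtain ⟨U, h, s, rfl⟩ := exists_gm (z := x) (M := H c G F) a
  obtain ⟨-, hsurj⟩ := (ModTensor.Monoidal.isIso_map_iff
    ((ModTensor.Monoidal.adj.{u, u, u} O_X).unit.app (PF c G F))).1 inferInstance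
  obtain ⟨W, k, ⟨z, hz⟩, hW⟩ := Presheaf.imageSieve_mem (Opens.grothendieckTopology X)
    ((PresheafOfModules.toPresheaf _).map ((ModTensor.Monoidal.adj.{u, u, u} O_X).unit.app (PF c G F))) s x h
  refine ⟨θ c G F x hW z, (Φ_θ c G F x hW z).trans ?_⟩
  exact (congrArg (gm x (H c G F) W hW) hz).trans (gm_res (H c G F) k hW s)

theorem mono_Hmap [Mono φ]
    (hF : ∀ x : X, Module.Flat (R c x) (FR c F x)) : Mono (Hmap c φ F) := by
  have hinj : ∀ U : Opens X, Function.Injective ((Hmap c φ F).val.app (op U)) := fun U => by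
    refine (injective_iff_map_eq_zero _).2 fun s hs => eq_zero_of_gm s fun x h => ?_
    obtain ⟨t, ht⟩ := exists_Φ c F x (gm x (H c G₁ F) U h s)
    have e := natural c φ F x t
    rw [ht] at e
    have e₃ : Φ c G₂ F x (LinearMap.rTensor (FR c F x) (stalkφ c φ x) t) = 0 :=
      e.symm.trans (((pt x).toPresheafFiber_naturality_apply
        ((SheafOfModules.toSheaf (_root_.ModSite.ringSh O_X)).map (Hmap c φ F)).hom U (nb x h) s).trans
        ((congrArg (gm x (H c G₂ F) U h) hs).trans (map_zero _)))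
    have hr := Φ_injective c F x (e₃.trans (map_zero _).symm)
    haveI := hF x
    have ht0 : t = 0 := Module.Flat.rTensor_preserves_injective_linearMap (M := FR c F x) (stalkφ c φ x)
      (stalkφ_injective c φ x) (hr.trans (map_zero _).symm)
    rw [← ht, ht0, map_zero]
  haveI : Mono ((ModTensor.Monoidal.G.{u, u, u} O_X).map (Hmap c φ F)) :=
    (PresheafOfModules.mono_iff_surjective _).2 fun U => hinj U.unop
  haveI : (ModTensor.Monoidal.G.{u, u, u} O_X).Faithful :=
    (SheafOfModules.fullyFaithfulForget (ModTensor.Monoidal.rs.{u, u, u} O_X)).faithful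
  exact (ModTensor.Monoidal.G.{u, u, u} O_X).mono_of_mono_map inferInstance

theorem preserves (hF : ∀ x : X, Module.Flat (R c x) (FR c F x)) :
    PreservesFiniteLimits ((rmor c).pull ⋙ (_root_.ModSite.tensorBi O_X).flip.obj F) ∧
      PreservesFiniteColimits ((rmor c).pull ⋙ (_root_.ModSite.tensorBi O_X).flip.obj F) := by
  haveI : ((_root_.ModSite.tensorBi O_X).flip.obj F).IsLeftAdjoint := ModTensor.ModSite.hasSheafHom F
  let T' := (rmor c).pull ⋙ (_root_.ModSite.tensorBi O_X).flip.obj F
  haveI : (rmor c).pull.IsLeftAdjoint := (rmor c).adj.isLeftAdjoint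
  haveI : PreservesColimitsOfSize.{0, 0} T' := comp_preservesColimits _ _
  haveI hfc : PreservesFiniteColimits T' := PreservesColimitsOfSize.preservesFiniteColimits _
  haveI := preservesBinaryBiproducts_of_preservesBinaryCoproducts T'
  haveI : T'.Additive := Functor.additive_of_preservesBinaryBiproducts T'
  refine ⟨ModTensor.FlatMono.preservesFiniteLimits_of_mono T' fun A B φ hφ => ?_, hfc⟩
  refine @Eq.mpr (Mono _) (Mono (Hmap c φ F)) ?_ (mono_Hmap c φ F hF)
  rw [show T'.map φ = (ModTensor.Monoidal.L.{u, u, u} O_X).map (PFmap c φ F) from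
    ((Category.comp_id _).symm.trans
      ((ModTensor.ModSite.tensorBiFlipIso F).hom.naturality ((rmor c).pull.map φ))).trans
      (Category.id_comp _)]
  rfl

end Groth.Agent.Lib.StalkPullTensor28.Main
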