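import Groth.Agent.Lib.StalkPullTensor28.Rings
import Groth.Agent.Lib.ModTensor.ModSite

/-!
# The pairing `G_{fx} ⊗ F_x → (f^*G ⊗ F)_x`
-/

set_option autoImplicit false
set_option linter.style.haveILetI false
set_option maxHeartbeats 1000000
set_option backward.isDefEq.respectTransparency.types false

universe u

open CategoryTheory CategoryTheory.Limits Opposite TopologicalSpace MonoidalCategory TensorProduct

namespace Groth.Agent.Lib.StalkPullTensor28.Pair

open Groth.Agent.Lib.StalkPullTensor28.Germ Groth.Agent.Lib.StalkPullTensor28.Rings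
  Groth.Agent.Lib.RMorLocal Groth.Agent.Lib.RMorLocal.FlatStalk Groth.Agent.Lib.ModTensor.Local

variable {X Y : TopCat.{u}} {f : X ⟶ Y} {O_X : TopCat.Sheaf CommRingCat.{u} X}
  {O_Y : TopCat.Sheaf CommRingCat.{u} Y}
  (c : O_Y ⟶ ((TopologicalSpace.Opens.map f).sheafPushforwardContinuous CommRingCat.{u}
    (Opens.grothendieckTopology Y) (Opens.grothendieckTopology X)).obj O_X)
  (G : _root_.ModSite.Mod O_Y) (F : _root_.ModSite.Mod O_X) (x : X)

/-- The presheaf tensor product. -/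
noncomputable abbrev PF : ModTensor.Monoidal.PM O_X :=
  Pull.PMod (rmor c) G ⊗ (ModTensor.Monoidal.G.{u, u, u} O_X).obj F

/-- The tensor product. -/
noncomputable abbrev H : _root_.ModSite.Mod O_X :=
  (ModTensor.Monoidal.L.{u, u, u} O_X).obj (PF c G F)

/-- The sheafification map on sections. -/
noncomputable def η (U : Opens X) : (PF c G F).obj (op U) →ₗ[O_X.obj.obj (op U)] _root_.ModSite.sect (H c G F) U :=
  (((ModTensor.Monoidal.adj.{u, u, u} O_X).unit.app (PF c G F)).app (op U)).hom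

lemma η_res {U W : Opens X} (g : W ⟶ U) (z : (PF c G F).obj (op U)) :
    η c G F W (res (R := O_X.obj) (PF c G F) g.op z) = ((H c G F).val.presheaf.map g.op).hom (η c G F U z) :=
  res_app (R := O_X.obj) ((ModTensor.Monoidal.adj.{u, u, u} O_X).unit.app (PF c G F)) g.op z

/-- The germ of a pure tensor. -/
noncomputable def el {W : Opens X} {V : Opens Y} (ψ : W ⟶ (Opens.map f).obj V) (h : x ∈ W)
    (m : _root_.ModSite.sect G V) (s : _root_.ModSite.sect F W) : _root_.ModSite.stalkAb (pt x) (H c G F) :=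
  gm x (H c G F) W h (η c G F W
    (tm (R := O_X.obj) (Pull.PMod (rmor c) G) ((ModTensor.Monoidal.G.{u, u, u} O_X).obj F)
      (Pull.pl (rmor c) G ψ m) s))

lemma el_res {W W' : Opens X} {V : Opens Y} (g : W' ⟶ W) (ψ : W ⟶ (Opens.map f).obj V) (h : x ∈ W')
    (m : _root_.ModSite.sect G V) (s : _root_.ModSite.sect F W) :
    el c G F x (g ≫ ψ) h m ((F.val.presheaf.map g.op).hom s) = el c G F x ψ (g.le h) m s := by
  refine Eq.trans ?_ (gm_res (H c G F) g h _)
  refine congrArg (gm x (H c G F) W' h) (Eq.trans ?_ (η_res c G F g _))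
  refine congrArg (η c G F W') (Eq.trans ?_ (res_tm (R := O_X.obj) _ _ g.op _ _).symm)
  exact congrArg (fun q => tm (R := O_X.obj) _ _ q ((F.val.presheaf.map g.op).hom s))
    (Pull.res_pl (rmor c) G g ψ m).symm

lemma el_map {W : Opens X} {V V' : Opens Y} (ψ : W ⟶ (Opens.map f).obj V') (a : V' ⟶ V) (h : x ∈ W)
    (m : _root_.ModSite.sect G V) (s : _root_.ModSite.sect F W) :
    el c G F x ψ h ((G.val.presheaf.map a.op).hom m) s = el c G F x (ψ ≫ (Opens.map f).map a) h m s :=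
  congrArg (fun q => gm x (H c G F) W h (η c G F W (tm (R := O_X.obj) _ _ q s)))
    (Pull.pl_res (rmor c) G ψ a m)

lemma el_add_left {W : Opens X} {V : Opens Y} (ψ : W ⟶ (Opens.map f).obj V) (h : x ∈ W)
    (m m' : _root_.ModSite.sect G V) (s : _root_.ModSite.sect F W) :
    el c G F x ψ h (m + m') s = el c G F x ψ h m s + el c G F x ψ h m' s := by
  simp only [el, Pull.pl_add]
  rw [← map_add, ← map_add]
  exact congrArg _ (congrArg _ (TensorProduct.add_tmul _ _ _))

lemma el_add_right {W : Opens X} {V : Opens Y} (ψ : W ⟶ (Opens.map f).obj V) (h : x ∈ W)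
    (m : _root_.ModSite.sect G V) (s s' : _root_.ModSite.sect F W) :
    el c G F x ψ h m (s + s') = el c G F x ψ h m s + el c G F x ψ h m s' := by
  simp only [el]
  rw [← map_add, ← map_add]
  exact congrArg _ (congrArg _ (TensorProduct.tmul_add _ _ _))

lemma el_smul {W : Opens X} {V : Opens Y} (ψ : W ⟶ (Opens.map f).obj V) (h : x ∈ W)
    (r : O_Y.obj.obj (op V)) (m : _root_.ModSite.sect G V) (s : _root_.ModSite.sect F W) :
    el c G F x ψ h (r • m) s = el c G F x ψ h m (Pull.sh (rmor c) ψ r • s) :=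
  congrArg (fun q => gm x (H c G F) W h (η c G F W q))
    ((congrArg (fun q => tm (R := O_X.obj) _ _ q s) (Pull.pl_smul (rmor c) G ψ r m)).trans
      (TensorProduct.smul_tmul (R := O_X.obj.obj (op W)) _ _ _))

theorem el_eq {W W' : Opens X} {V V' : Opens Y} (ψ : W ⟶ (Opens.map f).obj V)
    (ψ' : W' ⟶ (Opens.map f).obj V') (h : x ∈ W) (h' : x ∈ W')
    {m : _root_.ModSite.sect G V} {m' : _root_.ModSite.sect G V'} {s : _root_.ModSite.sect F W}
    {s' : _root_.ModSite.sect F W'}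
    (hm : gm (f x) G V (ψ.le h) m = gm (f x) G V' (ψ'.le h') m')
    (hs : gm x F W h s = gm x F W' h' s') :
    el c G F x ψ h m s = el c G F x ψ' h' m' s' := by
  obtain ⟨V'', a, hV, em⟩ := exists_of_gm_eq (M := G) (U := V ⊓ V') (z := f x) ⟨ψ.le h, ψ'.le h'⟩
    (show gm (f x) G (V ⊓ V') ⟨ψ.le h, ψ'.le h'⟩ ((G.val.presheaf.map (homOfLE inf_le_left).op).hom m) =
      gm (f x) G (V ⊓ V') ⟨ψ.le h, ψ'.le h'⟩ ((G.val.presheaf.map (homOfLE inf_le_right).op).hom m') by
      rw [gm_res, gm_res]; exact hm)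
  obtain ⟨W'', b, hW, es⟩ := exists_of_gm_eq (M := F) (U := W ⊓ W') (z := x) ⟨h, h'⟩
    (show gm x F (W ⊓ W') ⟨h, h'⟩ ((F.val.presheaf.map (homOfLE inf_le_left).op).hom s) =
      gm x F (W ⊓ W') ⟨h, h'⟩ ((F.val.presheaf.map (homOfLE inf_le_right).op).hom s') by
      rw [gm_res, gm_res]; exact hs)
  let Z : Opens X := W'' ⊓ (Opens.map f).obj V''
  have hZ : x ∈ Z := ⟨hW, hV⟩
  let χ : Z ⟶ (Opens.map f).obj V'' := homOfLE inf_le_right
  let g : Z ⟶ W'' := homOfLE inf_le_left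
  have key : ∀ {W₀ : Opens X} {V₀ : Opens Y} (ψ₀ : W₀ ⟶ (Opens.map f).obj V₀) (h₀ : x ∈ W₀)
      (b₀ : W'' ⟶ W₀) (a₀ : V'' ⟶ V₀) (m₀ : _root_.ModSite.sect G V₀) (s₀ : _root_.ModSite.sect F W₀),
      el c G F x ψ₀ h₀ m₀ s₀ = el c G F x χ hZ ((G.val.presheaf.map a₀.op).hom m₀)
        ((F.val.presheaf.map g.op).hom ((F.val.presheaf.map b₀.op).hom s₀)) := by
    intro W₀ V₀ ψ₀ h₀ b₀ a₀ m₀ s₀
    rw [el_map, show χ ≫ (Opens.map f).map a₀ = (g ≫ b₀) ≫ ψ₀ from Subsingleton.elim _ _]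
    refine ((el_res c G F x (g ≫ b₀) ψ₀ hZ m₀ s₀).symm.trans ?_)
    rw [op_comp, Functor.map_comp]
    rfl
  rw [key ψ h (b ≫ homOfLE inf_le_left) (a ≫ homOfLE inf_le_left),
    key ψ' h' (b ≫ homOfLE inf_le_right) (a ≫ homOfLE inf_le_right)]
  congr 1
  · rw [op_comp, op_comp, Functor.map_comp, Functor.map_comp]
    exact em
  · refine congrArg _ ?_
    rw [op_comp, op_comp, Functor.map_comp, Functor.map_comp]
    exact es

/-- The stalk of `F`, as a module over `O_{Y,fx}`. -/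
def FR : Type u := (fun _ => Fst x F) c

noncomputable instance : AddCommGroup (FR c F x) := inferInstanceAs (AddCommGroup (Fst x F))

noncomputable instance : Module (R c x) (FR c F x) := modR c x F

/-- A class as an element of the module over `O_{Y,fx}`. -/
noncomputable def toFR : _root_.ModSite.stalkAb (pt x) F →+ FR c F x := AddMonoidHom.id _

lemma smul_toFR (r : R c x) (b : _root_.ModSite.stalkAb (pt x) F) :
    r • toFR c F x b = toFR c F x (σ c x r • b) := rfl

/-- The stalk of `G` downstairs. -/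
abbrev Gst : Type u := (fun _ => _root_.ModSite.stalkAb (pt (f x)) G) c

lemma exists_rep (a : Gst c G x) (b : FR c F x) :
    ∃ (W : Opens X) (V : Opens Y) (ψ : W ⟶ (Opens.map f).obj V) (h : x ∈ W)
      (m : _root_.ModSite.sect G V) (s : _root_.ModSite.sect F W),
      gm (f x) G V (ψ.le h) m = a ∧ toFR c F x (gm x F W h s) = b := by
  obtain ⟨V, hV, m, rfl⟩ := exists_gm (M := G) a
  obtain ⟨W, hW, s, hs⟩ := exists_gm (z := x) (M := F) b
  refine ⟨W ⊓ (Opens.map f).obj V, V, homOfLE inf_le_right, ⟨hW, hV⟩, m,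
    (F.val.presheaf.map (homOfLE inf_le_left).op).hom s, rfl, ?_⟩
  exact (congrArg (toFR c F x) (gm_res F _ _ s)).trans hs

/-- The pairing. -/
noncomputable def pr (a : Gst c G x) (b : FR c F x) : _root_.ModSite.stalkAb (pt x) (H c G F) :=
  el c G F x (exists_rep c G F x a b).choose_spec.choose_spec.choose
    (exists_rep c G F x a b).choose_spec.choose_spec.choose_spec.choose
    (exists_rep c G F x a b).choose_spec.choose_spec.choose_spec.choose_spec.choose
    (exists_rep c G F x a b).choose_spec.choose_spec.choose_spec.choose_spec.choose_spec.choose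

theorem pr_eq {W : Opens X} {V : Opens Y} (ψ : W ⟶ (Opens.map f).obj V) (h : x ∈ W)
    (m : _root_.ModSite.sect G V) (s : _root_.ModSite.sect F W) :
    pr c G F x (gm (f x) G V (ψ.le h) m) (toFR c F x (gm x F W h s)) = el c G F x ψ h m s :=
  let e := (exists_rep c G F x (gm (f x) G V (ψ.le h) m) (toFR c F x (gm x F W h s))
    ).choose_spec.choose_spec.choose_spec.choose_spec.choose_spec.choose_spec
  el_eq c G F x _ _ _ _ e.1 e.2

lemma pr_add_left (a a' : Gst c G x) (b : FR c F x) :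
    pr c G F x (a + a') b = pr c G F x a b + pr c G F x a' b := by
  obtain ⟨W, V, ψ, h, m, s, rfl, rfl⟩ := exists_rep c G F x a b
  obtain ⟨V', hV', m', rfl⟩ := exists_gm (M := G) a'
  let i : V ⊓ V' ⟶ V := homOfLE inf_le_left
  let j : V ⊓ V' ⟶ V' := homOfLE inf_le_right
  let g : W ⊓ (Opens.map f).obj V' ⟶ W := homOfLE inf_le_left
  let χ : W ⊓ (Opens.map f).obj V' ⟶ (Opens.map f).obj (V ⊓ V') :=
    homOfLE fun y hy => ⟨ψ.le hy.1, hy.2⟩
  have hx : x ∈ W ⊓ (Opens.map f).obj V' := ⟨h, hV'⟩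
  rw [← gm_res G i (χ.le hx) m, ← gm_res G j (χ.le hx) m', ← gm_res F g hx s, ← map_add,
    pr_eq c G F x χ hx, pr_eq c G F x χ hx, pr_eq c G F x χ hx, el_add_left]

lemma pr_add_right (a : Gst c G x) (b b' : FR c F x) :
    pr c G F x a (b + b') = pr c G F x a b + pr c G F x a b' := by
  obtain ⟨W, V, ψ, h, m, s, rfl, rfl⟩ := exists_rep c G F x a b
  obtain ⟨W', hW', s', rfl⟩ : ∃ (W' : Opens X) (h' : x ∈ W') (s' : _root_.ModSite.sect F W'),
      toFR c F x (gm x F W' h' s') = b' := exists_gm (M := F) b'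
  let g : W ⊓ W' ⟶ W := homOfLE inf_le_left
  let g' : W ⊓ W' ⟶ W' := homOfLE inf_le_right
  have hx : x ∈ W ⊓ W' := ⟨h, hW'⟩
  rw [← gm_res F g hx s, ← gm_res F g' hx s', ← map_add, ← map_add,
    pr_eq c G F x (g ≫ ψ) hx, pr_eq c G F x (g ≫ ψ) hx, pr_eq c G F x (g ≫ ψ) hx, el_add_right]

lemma pr_smul (r : R c x) (a : Gst c G x) (b : FR c F x) :
    pr c G F x (r • a) b = pr c G F x a (r • b) := by
  obtain ⟨W, V, ψ, h, m, s, rfl, rfl⟩ := exists_rep c G F x a b
  obtain ⟨V', hV', r, rfl⟩ := exists_gr (O := O_Y) r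
  let i : V ⊓ V' ⟶ V := homOfLE inf_le_left
  let j : V ⊓ V' ⟶ V' := homOfLE inf_le_right
  let g : W ⊓ (Opens.map f).obj V' ⟶ W := homOfLE inf_le_left
  let χ : W ⊓ (Opens.map f).obj V' ⟶ (Opens.map f).obj (V ⊓ V') :=
    homOfLE fun y hy => ⟨ψ.le hy.1, hy.2⟩
  have hx : x ∈ W ⊓ (Opens.map f).obj V' := ⟨h, hV'⟩
  rw [← gm_res G i (χ.le hx) m, ← gr_res (O := O_Y) j (χ.le hx) r, ← gm_res F g hx s, smul_toFR,
    ← gm_smul, ← gr_sh c x χ hx, ← gm_smul,
    pr_eq c G F x χ hx, pr_eq c G F x χ hx, el_smul]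

/-- The comparison map. -/
noncomputable def Φ : Gst c G x ⊗[R c x] FR c F x →+ _root_.ModSite.stalkAb (pt x) (H c G F) :=
  TensorProduct.liftAddHom
    (AddMonoidHom.mk' (fun a => AddMonoidHom.mk' (fun b => pr c G F x a b) (pr_add_right c G F x a))
      (fun a a' => AddMonoidHom.ext fun b => pr_add_left c G F x a a' b))
    (fun r a b => pr_smul c G F x r a b)

lemma Φ_tmul {W : Opens X} {V : Opens Y} (ψ : W ⟶ (Opens.map f).obj V) (h : x ∈ W)
    (m : _root_.ModSite.sect G V) (s : _root_.ModSite.sect F W) :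
    Φ c G F x (gm (f x) G V (ψ.le h) m ⊗ₜ[R c x] toFR c F x (gm x F W h s)) = el c G F x ψ h m s :=
  pr_eq c G F x ψ h m s

end Groth.Agent.Lib.StalkPullTensor28.Pair
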